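import Cfsg.Agent.Lib.helper17.TitsM.Model4
import Cfsg.Agent.Lib.helper17.TitsM.G.Main
import Cfsg.Agent.Lib.helper17.TitsM.H.Main
import Cfsg.Prelude.Def_KGroupFacts

/-!
Every finite stem extension of the Tits group is trivial (helper17).
-/

set_option autoImplicit false
set_option maxRecDepth 100000

namespace Cfsg.Agent.Lib.Helper17.TitsM

open Cfsg.Lie Cfsg.Lie.ChevalleyDatum Cfsg.Agent.Lib.helper8 Cfsg.Agent.Lib.Helper12.TC
  Cfsg.Agent.Lib.Helper12.TCG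

open scoped commutatorElement

theorem h17tm_invS : ∀ s < 10, invS G.cIV s = h17tmIL s := by decide

theorem h17tm_invS_H : ∀ s < 10, invS H.cIV s = h17tmIL s := by decide

theorem h17tm_G_sw : G.sw = G.Pres.swL := by decide +kernel

theorem h17tm_H_sw : H.sw = H.Pres.swL := by decide +kernel

theorem h17tm_G_hlet : lettersK 10 G.Pres.baseL = true := by decide +kernel

theorem h17tm_H_hlet : lettersK 10 H.Pres.baseL = true := by decide +kernel

theorem h17tm_G_prs : ∀ p ∈ G.Pres.prs, (∀ t ∈ p.1, t < 4) ∧ (∀ t ∈ p.2, t < 4) := by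
  decide +kernel

theorem h17tm_G_low : (∀ t ∈ G.Pres.wS2, t < 4) ∧ (∀ t ∈ G.Pres.wS1, t < 4) ∧
    (∀ p ∈ G.Pres.wCs, ∀ t ∈ p.1, t < 4) ∧ (∀ t ∈ G.Pres.wR3, t < 4) ∧
    (∀ t ∈ G.Pres.wR4, t < 4) ∧ (∀ t ∈ G.Pres.wR5, t < 4) := by decide +kernel

theorem h17tm_H_low : (∀ t ∈ H.Pres.wS2, t < 4) ∧ (∀ t ∈ H.Pres.wS1, t < 4) ∧
    (∀ p ∈ H.Pres.wCs, ∀ t ∈ p.1, t < 4) ∧ (∀ t ∈ H.Pres.wR3, t < 4) ∧
    (∀ t ∈ H.Pres.wR4, t < 4) ∧ (∀ t ∈ H.Pres.wR5, t < 4) := by decide +kernel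

theorem h17tm_G_ex : h17tmEx 0 G.Pres.wS1 * (-3) + h17tmEx 2 G.Pres.wS1 * 2 = -1 ∧
    h17tmEx 0 G.Pres.wS1 * 13 + h17tmEx 2 G.Pres.wS1 * (-9) = 0 ∧
    h17tmEx 0 G.Pres.wS2 * (-3) + h17tmEx 2 G.Pres.wS2 * 2 = 0 ∧
    h17tmEx 0 G.Pres.wS2 * 13 + h17tmEx 2 G.Pres.wS2 * (-9) = -1 := by decide +kernel

theorem h17tm_H_ex : h17tmEx 0 H.Pres.wS1 * 3 + h17tmEx 2 H.Pres.wS1 * (-2) = -1 ∧
    h17tmEx 0 H.Pres.wS1 * (-2) + h17tmEx 2 H.Pres.wS1 * 1 = 0 ∧
    h17tmEx 0 H.Pres.wS2 * 3 + h17tmEx 2 H.Pres.wS2 * (-2) = 0 ∧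
    h17tmEx 0 H.Pres.wS2 * (-2) + h17tmEx 2 H.Pres.wS2 * 1 = -1 := by decide +kernel

theorem h17tm_Tcw_eq : h17tmTcw = h17tmCW [2, 1] [3, 0, 0, 0, 0, 0, 0] := by decide

theorem h17tm_Ucw_eq : h17tmUcw = h17tmCW [2] [1, 1, 1, 2, 1, 1, 1] := by decide

/-- the image of a word under a homomorphism killing the central letters -/
theorem h17tm_map_word {Λ G₀ : Type*} [Group Λ] [Group G₀] (τ : Λ →* G₀) (a b q r s : Λ)
    (hq : q ∈ τ.ker) (hr : r ∈ τ.ker) (hs : s ∈ τ.ker) (w : List ℕ) :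
    τ (wprod (h17tmV a b q r s) w) = wprod (h17tmV (τ a) (τ b) 1 1 1) w := by
  rw [← h17tm_wprod_map]
  apply h17tm_wprod_congr
  intro t _
  rw [h17tmV_map, MonoidHom.mem_ker.mp hq, MonoidHom.mem_ker.mp hr, MonoidHom.mem_ker.mp hs]

/-- the order of a finite stem extension of the Tits group is at most the order of the Tits group -/
theorem h17tm_card_bound {Γ : Type} [Group Γ] [Finite Γ] (σ : Γ →* TitsGroup)
    (hσ : Cfsg.IsStemExtension σ) : Nat.card Γ ≤ 17971200 := by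
  obtain ⟨hsurj, hcen, hcomm⟩ := hσ
  have hB := h17tm_hB
  obtain ⟨a, b, ha, hb, hgen⟩ := h17tm_model
  set τ : Γ →* GL chevF4.Idx (ZMod 2) := h17tmIota.comp σ with hτ
  have hker : τ.ker = σ.ker := by
    ext x
    rw [MonoidHom.mem_ker, MonoidHom.mem_ker, hτ, MonoidHom.comp_apply]
    constructor
    · intro h
      apply h17tmIota_inj
      rw [h, map_one]
    · intro h
      rw [h, map_one]
  have hc : τ.ker ≤ Subgroup.center Γ := hker ▸ hcen
  have hk : τ.ker ≤ commutator Γ := hker ▸ hcomm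
  obtain ⟨al, hal⟩ := hsurj a
  obtain ⟨bl, hbl⟩ := hsurj b
  have hτa : τ al = h17tmA0 hB := by rw [hτ, MonoidHom.comp_apply, hal, ha]
  have hτb : τ bl = h17tmB0 hB := by rw [hτ, MonoidHom.comp_apply, hbl, hb]
  obtain ⟨gl1, gl2, gl3, gl4, gl5, gl6⟩ := h17tm_G_low
  obtain ⟨ge1, ge2, ge3, ge4⟩ := h17tm_G_ex
  obtain ⟨za, hza, zb, hzb, q, hq, r, hr, s, hs, hbase⟩ := h17tm_level τ hc al bl G.Pres.wS2
    G.Pres.wS1 G.Pres.wCs G.Pres.wR3 G.Pres.wR4 G.Pres.wR5 gl1 gl2 gl3 gl4 gl5 gl6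
    (by rw [hτa, hτb]; exact h17tm_G_S2 hB) (by rw [hτa, hτb]; exact h17tm_G_S1 hB)
    (by rw [hτa, hτb]; exact h17tm_G_Cs hB) (by rw [hτa, hτb]; exact h17tm_G_R3 hB)
    (by rw [hτa, hτb]; exact h17tm_G_R4 hB) (by rw [hτa, hτb]; exact h17tm_G_R5 hB)
    (-3) 13 2 (-9) ge1 ge2 ge3 ge4
  set a' := al * za with ha'
  set b' := bl * zb with hb'
  set V := h17tmV a' b' q r s with hV
  have hτa' : τ a' = h17tmA0 hB := by
    rw [ha', map_mul, hτa, MonoidHom.mem_ker.mp hza, mul_one]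
  have hτb' : τ b' = h17tmB0 hB := by
    rw [hb', map_mul, hτb, MonoidHom.mem_ker.mp hzb, mul_one]
  have hτw : ∀ w : List ℕ, τ (wprod V w) = wprod (h17tmVg2 hB) w := by
    intro w
    rw [hV, h17tm_map_word τ a' b' q r s hq hr hs, hτa', hτb']
    rfl
  have hVIL := h17tmV_IL a' b' q r s
  -- generation
  have hgenΓ : Subgroup.closure {a', b'} = ⊤ := by
    apply h17tm_closure_eq_top τ hc hk
    intro g
    rw [Set.image_pair, hτa', hτb']
    exact hgen (σ g)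
  have hgenV : ∀ γ : Γ, γ ∈ Subgroup.closure {y | ∃ x < 10, y = V x} := by
    intro γ
    have h1 : γ ∈ Subgroup.closure {a', b'} := by rw [hgenΓ]; exact Subgroup.mem_top γ
    refine Subgroup.closure_mono ?_ h1
    intro y hy
    rcases hy with rfl | rfl
    · exact ⟨0, by decide, rfl⟩
    · exact ⟨2, by decide, rfl⟩
  -- the subgroup
  set X := wprod V G.Pres.xw with hX
  set Y := wprod V G.Pres.yw with hY
  set Q := Subgroup.closure {X, Y} with hQ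
  set K := ⁅Q, Q⁆ with hK
  have hvinv : ∀ t < 10, V (invS G.cIV t) = (V t)⁻¹ := by
    intro t ht
    rw [h17tm_invS t ht]
    exact hVIL t
  have hbaseL : ∀ w ∈ G.Pres.baseL, wprod V w = 1 := by
    rw [G.Pres.baseL_eq]
    exact hbase
  have hswK : ∀ w ∈ G.sw, wprod V w ∈ K := by
    rw [h17tm_G_sw]
    intro w hw
    unfold G.Pres.swL at hw
    rw [List.mem_map] at hw
    obtain ⟨p, hp, rfl⟩ := hw
    obtain ⟨hp1, hp2⟩ := h17tm_G_prs p hp
    exact h17tm_sub_mem V hVIL G.Pres.xw G.Pres.yw p.1 p.2 hp1 hp2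
  obtain ⟨hfinQ, hidx⟩ := Cfsg.Agent.Lib.Helper3.TCUpper.index_le V 10 G.cIV (by decide)
    (by decide) hvinv (h17tmV_ge a' b' q r s) hgenV G.Pres.baseL hbaseL h17tm_G_hlet G.sw
    G.hletsw K hswK G.F G.RW G.finrecs G.rotW G.chunks G.cD G.cK G.cR0 G.cR G.cN G.hdefs
    G.hchunks G.hcover G.hrelc G.hfin G.hlen
  have hidx' : Nat.card (Γ ⧸ K) ≤ 3200 := hidx
  -- the lifts of the generators of the subgroup
  set tl := wprod V (h17tmExp G.Pres.xw G.Pres.yw h17tmTcw) with htl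
  set ul := wprod V (h17tmExp G.Pres.xw G.Pres.yw h17tmUcw) with hul
  have htK : tl ∈ K := by
    rw [htl, h17tm_Tcw_eq]
    exact h17tm_sub_mem V hVIL G.Pres.xw G.Pres.yw _ _ (by decide) (by decide)
  have huK : ul ∈ K := by
    rw [hul, h17tm_Ucw_eq]
    exact h17tm_sub_mem V hVIL G.Pres.xw G.Pres.yw _ _ (by decide) (by decide)
  have hτt : τ tl = h17tmT0 hB := hτw _
  have hτu : τ ul = h17tmU0 hB := hτw _
  set τK : ↥K →* GL chevF4.Idx (ZMod 2) := τ.comp K.subtype with hτK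
  have hcK : τK.ker ≤ Subgroup.center ↥K := by
    intro k hk
    rw [Subgroup.mem_center_iff]
    intro g
    apply Subtype.ext
    rw [Subgroup.coe_mul, Subgroup.coe_mul]
    have hk' : k.val ∈ τ.ker := hk
    exact Subgroup.mem_center_iff.mp (hc hk') g.val
  set tK : ↥K := ⟨tl, htK⟩ with htKd
  set uK : ↥K := ⟨ul, huK⟩ with huKd
  have hτKt : τK tK = h17tmT0 hB := hτt
  have hτKu : τK uK = h17tmU0 hB := hτu
  obtain ⟨hl1, hl2, hl3, hl4, hl5, hl6⟩ := h17tm_H_low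
  obtain ⟨he1, he2, he3, he4⟩ := h17tm_H_ex
  obtain ⟨zt, hzt, zu, hzu, p', hp', q', hq', r', hr', hbaseH⟩ := h17tm_level τK hcK tK uK
    H.Pres.wS2 H.Pres.wS1 H.Pres.wCs H.Pres.wR3 H.Pres.wR4 H.Pres.wR5 hl1 hl2 hl3 hl4 hl5 hl6
    (by rw [hτKt, hτKu]; exact h17tm_H_S2 hB) (by rw [hτKt, hτKu]; exact h17tm_H_S1 hB)
    (by rw [hτKt, hτKu]; exact h17tm_H_Cs hB) (by rw [hτKt, hτKu]; exact h17tm_H_R3 hB)
    (by rw [hτKt, hτKu]; exact h17tm_H_R4 hB) (by rw [hτKt, hτKu]; exact h17tm_H_R5 hB)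
    3 (-2) (-2) 1 he1 he2 he3 he4
  set t' := tK * zt with ht'
  set u' := uK * zu with hu'
  set VH := h17tmV t' u' p' q' r' with hVH
  have hτt' : τK t' = h17tmT0 hB := by
    rw [ht', map_mul, hτKt, MonoidHom.mem_ker.mp hzt, mul_one]
  have hτu' : τK u' = h17tmU0 hB := by
    rw [hu', map_mul, hτKu, MonoidHom.mem_ker.mp hzu, mul_one]
  have hτwH : ∀ w : List ℕ, τK (wprod VH w) = wprod (h17tmVg3 hB) w := by
    intro w
    rw [hVH, h17tm_map_word τK t' u' p' q' r' hp' hq' hr', hτt', hτu']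
    rfl
  have hVHIL := h17tmV_IL t' u' p' q' r'
  -- generation of the derived group
  have hQmap : Q.map τ ≤ Subgroup.closure {h17tmT0 hB, h17tmU0 hB} := by
    rw [hQ, MonoidHom.map_closure, Set.image_pair, hX, hY, hτw, hτw, Subgroup.closure_le]
    intro y hy
    rcases hy with rfl | rfl
    · rw [h17tm_X0_word]
      apply h17tm_wprod_mem
      apply h17tmV_mem
      · exact Subgroup.subset_closure (by simp)
      · exact Subgroup.subset_closure (by simp)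
      all_goals exact Subgroup.one_mem _
    · rw [h17tm_Y0_eq]
      exact Subgroup.subset_closure (by simp)
  have hgenK : Subgroup.closure {t', u'} = ⊤ :=
    h17tm_derived_gen τ hc Q K hK (h17tmT0 hB) (h17tmU0 hB) ⟨tl, htK, hτt⟩ ⟨ul, huK, hτu⟩ hQmap
      t' u' hτt' hτu'
  have hgenVH : ∀ γ : ↥K, γ ∈ Subgroup.closure {y | ∃ x < 10, y = VH x} := by
    intro γ
    have h1 : γ ∈ Subgroup.closure {t', u'} := by rw [hgenK]; exact Subgroup.mem_top γ
    refine Subgroup.closure_mono ?_ h1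
    intro y hy
    rcases hy with rfl | rfl
    · exact ⟨0, by decide, rfl⟩
    · exact ⟨2, by decide, rfl⟩
  have hvinvH : ∀ t < 10, VH (invS H.cIV t) = (VH t)⁻¹ := by
    intro t ht
    rw [h17tm_invS_H t ht]
    exact hVHIL t
  have hbaseLH : ∀ w ∈ H.Pres.baseL, wprod VH w = 1 := by
    rw [H.Pres.baseL_eq]
    exact hbaseH
  set c := wprod VH (h17tmCW H.Pres.Xw H.Pres.Ww) with hcd
  have hswH : ∀ w ∈ H.sw, wprod VH w ∈ Subgroup.zpowers c := by
    rw [h17tm_H_sw]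
    intro w hw
    unfold H.Pres.swL at hw
    rw [List.mem_singleton] at hw
    rw [hw]
    exact Subgroup.mem_zpowers c
  obtain ⟨hfinH, hidxH⟩ := Cfsg.Agent.Lib.Helper3.TCUpper.index_le VH 10 H.cIV (by decide)
    (by decide) hvinvH (h17tmV_ge t' u' p' q' r') hgenVH H.Pres.baseL hbaseLH h17tm_H_hlet H.sw
    H.hletsw (Subgroup.zpowers c) hswH H.F H.RW H.finrecs H.rotW H.chunks H.cD H.cK H.cR0 H.cR
    H.cN H.hdefs H.hchunks H.hcover H.hrelc H.hfin H.hlen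
  have hc13 : c ^ 13 = 1 := by
    rw [hcd, h17tm_wprod_CW VH hVHIL]
    apply h17tm_comm_pow τK hcK _ _ 13 9 (by norm_num)
    · rw [hτwH]
      exact h17tm_X13 hB
    · rw [hτwH, hτwH]
      exact h17tm_XW hB
  obtain ⟨-, hKcard⟩ := Cfsg.Agent.Lib.Helper3.TCUpper.card_le_of_index_le c 13 H.cN (by norm_num)
    hc13 hfinH hidxH
  have hKcard' : Nat.card ↥K ≤ 5616 := hKcard
  exact h17tm_card_le K 3200 5616 hidx' hKcard'

/-- every finite stem extension of the Tits group is trivial -/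
theorem h17tm_stem_trivial {Γ : Type} [Group Γ] [Finite Γ] (σ : Γ →* TitsGroup)
    (hσ : Cfsg.IsStemExtension σ) (y : Γ) (hy : y ∈ σ.ker) : y = 1 := by
  have hcard : Nat.card TitsGroup = 17971200 := by
    rw [h8tw_tits_main.2.2]
    norm_num
  have h := h17tm_card_bound σ hσ
  rw [← hcard] at h
  exact h17tm_ker_trivial σ hσ.1 h y hy

end Cfsg.Agent.Lib.Helper17.TitsM
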