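import Mathlib
import Cfsg.Agent.Lib.helper8.ChevTI2
import Cfsg.Agent.Lib.Helper12.TC.Core

/-!
Tables of columns for elements of `GL₅₂(2)` in the adjoint module of type `F₄`, and the evaluation of
words on tables (helper17).
-/

set_option autoImplicit false

namespace Cfsg.Agent.Lib.Helper17.TitsM

open Cfsg.Lie Cfsg.Lie.ChevalleyDatum Cfsg.Agent.Lib.helper8 Cfsg.Agent.Lib.Helper12.TC

/-- the table `T` lists the columns of the matrix `g` as bit patterns -/
def h17tmRep (g : GL chevF4.Idx (ZMod 2)) (T : List ℕ) : Prop :=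
  T.length = 52 ∧ ∀ col row : chevF4.Idx, g.val row col = h8tiDec (T.getD (h8tiIdx col) 0) row

/-- the product of two tables -/
def h17tmTmul (T S : List ℕ) : List ℕ := S.map (fun c => h8tiMv T 0 c)

/-- the table of the identity -/
def h17tmTid : List ℕ := (List.range 52).map (fun j => 2 ^ j)

theorem h17tm_rep_one : h17tmRep 1 h17tmTid := by
  refine ⟨by simp [h17tmTid], ?_⟩
  intro col row
  have hlt := h8ti_idx_lt col
  have e : h17tmTid.getD (h8tiIdx col) 0 = 2 ^ h8tiIdx col := by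
    unfold h17tmTid
    rw [List.getD_eq_getElem _ _ (by simpa using hlt)]
    simp
  rw [e, h8tiDec_two_pow, Units.val_one, Matrix.one_apply, Pi.single_apply]

theorem h17tm_rep_mul (g h : GL chevF4.Idx (ZMod 2)) (T S : List ℕ) (hg : h17tmRep g T)
    (hh : h17tmRep h S) : h17tmRep (g * h) (h17tmTmul T S) := by
  refine ⟨by simp [h17tmTmul, hh.1], ?_⟩
  intro col row
  have hlt := h8ti_idx_lt col
  have e : (h17tmTmul T S).getD (h8tiIdx col) 0 = h8tiMv T 0 (S.getD (h8tiIdx col) 0) := by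
    unfold h17tmTmul
    rw [List.getD_eq_getElem _ _ (by simpa [hh.1] using hlt),
      List.getD_eq_getElem _ _ (by simpa [hh.1] using hlt)]
    simp
  rw [e, ← h8ti_mulVec g.val T hg.1 hg.2, Units.val_mul, Matrix.mul_apply]
  unfold Matrix.mulVec dotProduct
  apply Finset.sum_congr rfl
  intro k _
  rw [hh.2 col k]

theorem h17tm_rep_inj (g h : GL chevF4.Idx (ZMod 2)) (T : List ℕ) (hg : h17tmRep g T)
    (hh : h17tmRep h T) : g = h := by
  apply Units.ext
  ext row col
  rw [hg.2 col row, hh.2 col row]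

/-- the table of a word -/
def h17tmWtab (vt : ℕ → List ℕ) (w : List ℕ) : List ℕ :=
  w.foldr (fun s acc => h17tmTmul (vt s) acc) h17tmTid

theorem h17tm_rep_wprod (vg : ℕ → GL chevF4.Idx (ZMod 2)) (vt : ℕ → List ℕ) (w : List ℕ)
    (h : ∀ s ∈ w, h17tmRep (vg s) (vt s)) : h17tmRep (wprod vg w) (h17tmWtab vt w) := by
  induction w with
  | nil => exact h17tm_rep_one
  | cons s w ih =>
    rw [wprod_cons]
    exact h17tm_rep_mul _ _ _ _ (h s List.mem_cons_self)
      (ih (fun t ht => h t (List.mem_cons_of_mem _ ht)))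

/-- a word is trivial if its table is the table of the identity -/
theorem h17tm_wprod_eq_one (vg : ℕ → GL chevF4.Idx (ZMod 2)) (vt : ℕ → List ℕ) (w : List ℕ)
    (h : ∀ s ∈ w, h17tmRep (vg s) (vt s)) (ht : h17tmWtab vt w = h17tmTid) : wprod vg w = 1 := by
  have := h17tm_rep_wprod vg vt w h
  rw [ht] at this
  exact h17tm_rep_inj _ _ _ this h17tm_rep_one

/-- two words are equal if their tables are equal -/
theorem h17tm_wprod_eq (vg : ℕ → GL chevF4.Idx (ZMod 2)) (vt : ℕ → List ℕ) (w w' : List ℕ)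
    (h : ∀ s ∈ w, h17tmRep (vg s) (vt s)) (h' : ∀ s ∈ w', h17tmRep (vg s) (vt s))
    (ht : h17tmWtab vt w = h17tmWtab vt w') : wprod vg w = wprod vg w' := by
  have h1 := h17tm_rep_wprod vg vt w h
  have h2 := h17tm_rep_wprod vg vt w' h'
  rw [ht] at h1
  exact h17tm_rep_inj _ _ _ h1 h2

variable (hB : H8Base.{0} chevF4)

theorem h17tm_rep_root (r : ℕ) (hr : r ∈ h8tiRoots) :
    h17tmRep (h8xU chevF4 hB r 1) (h8tiTab r) :=
  ⟨h8tiTab_length r hr, fun col row => by rw [h8xU_val]; exact h8tiTab_spec r hr col row⟩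

/-- the table of a word in the root elements -/
theorem h17tm_rep_W (w : List ℕ) (hw : ∀ r ∈ w, r ∈ h8tiRoots) :
    h17tmRep (h8tiW hB w) (h17tmWtab h8tiTab w) := by
  have : h8tiW hB w = wprod (fun r => h8xU chevF4 hB r 1) w := rfl
  rw [this]
  exact h17tm_rep_wprod _ _ w (fun r hr => h17tm_rep_root hB r (hw r hr))

end Cfsg.Agent.Lib.Helper17.TitsM
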