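import Cfsg.Agent.Lib.helper17.TitsM.Model2
import Cfsg.Agent.Lib.helper8.ChevTI9

/-!
Two generators of the Tits group and of a subgroup `L₃(3)` as matrices: the relations (helper17).
-/

set_option autoImplicit false

namespace Cfsg.Agent.Lib.Helper17.TitsM

open Cfsg.Lie Cfsg.Lie.ChevalleyDatum Cfsg.Agent.Lib.helper8 Cfsg.Agent.Lib.Helper12.TC

variable (hB : H8Base.{0} chevF4)

/-- the first generator -/
noncomputable def h17tmA0 : GL chevF4.Idx (ZMod 2) := h8tiW hB h17tmAwR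

/-- the second generator -/
noncomputable def h17tmB0 : GL chevF4.Idx (ZMod 2) := h8tiW hB h17tmBwR

theorem h17tm_rep_A0 : h17tmRep (h17tmA0 hB) h17tmTA := by
  have := h17tm_rep_W hB h17tmAwR h17tmAwR_mem
  rwa [h17tm_tab_A] at this

theorem h17tm_rep_B0 : h17tmRep (h17tmB0 hB) h17tmTB := by
  have := h17tm_rep_W hB h17tmBwR h17tmBwR_mem
  rwa [h17tm_tab_B] at this

theorem h17tm_A0_sq : h17tmA0 hB * h17tmA0 hB = 1 := by
  have := h17tm_rep_mul _ _ _ _ (h17tm_rep_A0 hB) (h17tm_rep_A0 hB)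
  rw [h17tm_tab_AA] at this
  exact h17tm_rep_inj _ _ _ this h17tm_rep_one

theorem h17tm_A0_inv : (h17tmA0 hB)⁻¹ = h17tmA0 hB := inv_eq_of_mul_eq_one_right (h17tm_A0_sq hB)

theorem h17tm_rep_B0sq : h17tmRep (h17tmB0 hB * h17tmB0 hB) h17tmTB2 := by
  have := h17tm_rep_mul _ _ _ _ (h17tm_rep_B0 hB) (h17tm_rep_B0 hB)
  rwa [h17tm_tab_B2] at this

theorem h17tm_B0_cube : h17tmB0 hB * (h17tmB0 hB * h17tmB0 hB) = 1 := by
  have := h17tm_rep_mul _ _ _ _ (h17tm_rep_B0 hB) (h17tm_rep_B0sq hB)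
  rw [h17tm_tab_BBB] at this
  exact h17tm_rep_inj _ _ _ this h17tm_rep_one

theorem h17tm_B0_inv : (h17tmB0 hB)⁻¹ = h17tmB0 hB * h17tmB0 hB :=
  inv_eq_of_mul_eq_one_right (h17tm_B0_cube hB)

/-- the letters of the first level as matrices -/
noncomputable def h17tmVg2 : ℕ → GL chevF4.Idx (ZMod 2) := h17tmV (h17tmA0 hB) (h17tmB0 hB) 1 1 1

theorem h17tm_rep_vg2 (n : ℕ) : h17tmRep (h17tmVg2 hB n) (h17tmVt2 n) := by
  unfold h17tmVg2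
  by_cases h : n < 10
  · interval_cases n
    · exact h17tm_rep_A0 hB
    · show h17tmRep (h17tmA0 hB)⁻¹ h17tmTA
      rw [h17tm_A0_inv]
      exact h17tm_rep_A0 hB
    · exact h17tm_rep_B0 hB
    · show h17tmRep (h17tmB0 hB)⁻¹ h17tmTB2
      rw [h17tm_B0_inv]
      exact h17tm_rep_B0sq hB
    · exact h17tm_rep_one
    · show h17tmRep (1 : GL chevF4.Idx (ZMod 2))⁻¹ h17tmTid
      rw [inv_one]
      exact h17tm_rep_one
    · exact h17tm_rep_one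
    · show h17tmRep (1 : GL chevF4.Idx (ZMod 2))⁻¹ h17tmTid
      rw [inv_one]
      exact h17tm_rep_one
    · exact h17tm_rep_one
    · show h17tmRep (1 : GL chevF4.Idx (ZMod 2))⁻¹ h17tmTid
      rw [inv_one]
      exact h17tm_rep_one
  · rw [h17tmV_ge _ _ _ _ _ _ h]
    obtain ⟨k, rfl⟩ : ∃ k, n = k + 10 := ⟨n - 10, by omega⟩
    exact h17tm_rep_one

theorem h17tm_G_S2 : wprod (h17tmVg2 hB) G.Pres.wS2 = 1 :=
  h17tm_wprod_eq_one _ _ _ (fun s _ => h17tm_rep_vg2 hB s) h17tm_tabG_S2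

theorem h17tm_G_S1 : wprod (h17tmVg2 hB) G.Pres.wS1 = 1 :=
  h17tm_wprod_eq_one _ _ _ (fun s _ => h17tm_rep_vg2 hB s) h17tm_tabG_S1

theorem h17tm_G_R3 : wprod (h17tmVg2 hB) G.Pres.wR3 = 1 :=
  h17tm_wprod_eq_one _ _ _ (fun s _ => h17tm_rep_vg2 hB s) h17tm_tabG_R3

theorem h17tm_G_R4 : wprod (h17tmVg2 hB) G.Pres.wR4 = 1 :=
  h17tm_wprod_eq_one _ _ _ (fun s _ => h17tm_rep_vg2 hB s) h17tm_tabG_R4

theorem h17tm_G_R5 : wprod (h17tmVg2 hB) G.Pres.wR5 = 1 :=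
  h17tm_wprod_eq_one _ _ _ (fun s _ => h17tm_rep_vg2 hB s) h17tm_tabG_R5

theorem h17tm_G_Cs : ∀ p ∈ G.Pres.wCs, wprod (h17tmVg2 hB) p.1 = 1 := fun p hp =>
  h17tm_wprod_eq_one _ _ _ (fun s _ => h17tm_rep_vg2 hB s) (h17tm_tabG_Cs p hp)

theorem h17tm_rep_A1 : h17tmRep (h8tiW hB h8twa1) h17tmTA1 := by
  have := h17tm_rep_W hB h8twa1 (by decide)
  rwa [show h8twa1 = [33, 24] from rfl, h17tm_tab_A1] at this

theorem h17tm_rep_B1 : h17tmRep (h8tiW hB h8twb1) h17tmTB1 := by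
  have := h17tm_rep_W hB h8twb1 (by decide)
  rwa [show h8twb1 = [14, 23] from rfl, h17tm_tab_B1] at this

theorem h17tm_rep_A2 : h17tmRep (h8tiW hB h8twa2) h17tmTA2 := by
  have := h17tm_rep_W hB h8twa2 (by decide)
  rwa [show h8twa2 = [27, 25, 28] from rfl, h17tm_tab_A2] at this

theorem h17tm_rep_B2 : h17tmRep (h8tiW hB h8twb2) h17tmTB2g := by
  have := h17tm_rep_W hB h8twb2 (by decide)
  rwa [show h8twb2 = [20, 22, 19] from rfl, h17tm_tab_B2g] at this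

theorem h17tm_A1_word : h8tiW hB h8twa1 = wprod (h17tmVg2 hB) h17tmWA1 := by
  have := h17tm_rep_wprod (h17tmVg2 hB) h17tmVt2 h17tmWA1 (fun s _ => h17tm_rep_vg2 hB s)
  rw [h17tm_tab_WA1] at this
  exact h17tm_rep_inj _ _ _ (h17tm_rep_A1 hB) this

theorem h17tm_B1_word : h8tiW hB h8twb1 = wprod (h17tmVg2 hB) h17tmWB1 := by
  have := h17tm_rep_wprod (h17tmVg2 hB) h17tmVt2 h17tmWB1 (fun s _ => h17tm_rep_vg2 hB s)
  rw [h17tm_tab_WB1] at this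
  exact h17tm_rep_inj _ _ _ (h17tm_rep_B1 hB) this

theorem h17tm_B2_word :
    h8tiW hB h8twb2 = wprod (h17tmVg2 hB) h17tmWB2A2 * h8tiW hB h8twa2 := by
  have := h17tm_rep_mul _ _ _ _
    (h17tm_rep_wprod (h17tmVg2 hB) h17tmVt2 h17tmWB2A2 (fun s _ => h17tm_rep_vg2 hB s))
    (h17tm_rep_A2 hB)
  rw [h17tm_tab_WB2A2] at this
  exact h17tm_rep_inj _ _ _ (h17tm_rep_B2 hB) this

theorem h17tm_A2b_word :
    h8tiW hB h8twa2 * h17tmB0 hB = wprod (h17tmVg2 hB) h17tmWA2b * h8tiW hB h8twa2 := by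
  have h1 := h17tm_rep_mul _ _ _ _ (h17tm_rep_A2 hB) (h17tm_rep_B0 hB)
  have h2 := h17tm_rep_mul _ _ _ _
    (h17tm_rep_wprod (h17tmVg2 hB) h17tmVt2 h17tmWA2b (fun s _ => h17tm_rep_vg2 hB s))
    (h17tm_rep_A2 hB)
  rw [h17tm_tab_WA2b] at h1
  exact h17tm_rep_inj _ _ _ h1 h2

theorem h17tm_A0_eq : h17tmA0 hB = h8tiW hB h8twa2 * h8tiW hB h8twa2 := by
  unfold h17tmA0
  rw [← h8tiW_append]
  rfl

theorem h17tm_B0_eq : h17tmB0 hB =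
    (h8tiW hB h8twa1 * h8tiW hB h8twb2 * h8tiW hB h8twb1) *
      (h8tiW hB h8twa1 * h8tiW hB h8twb2 * h8tiW hB h8twb1) *
      ((h8tiW hB h8twa1 * h8tiW hB h8twb2 * h8tiW hB h8twb1) *
      (h8tiW hB h8twa1 * h8tiW hB h8twb2 * h8tiW hB h8twb1)) := by
  unfold h17tmB0
  simp only [← h8tiW_append]
  rfl

/-- the first generator of the subgroup -/
noncomputable def h17tmT0 : GL chevF4.Idx (ZMod 2) :=
  wprod (h17tmVg2 hB) (h17tmExp G.Pres.xw G.Pres.yw h17tmTcw)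

/-- the second generator of the subgroup -/
noncomputable def h17tmU0 : GL chevF4.Idx (ZMod 2) :=
  wprod (h17tmVg2 hB) (h17tmExp G.Pres.xw G.Pres.yw h17tmUcw)

theorem h17tm_rep_T0 : h17tmRep (h17tmT0 hB) h17tmTT := by
  have := h17tm_rep_wprod (h17tmVg2 hB) h17tmVt2 (h17tmExp G.Pres.xw G.Pres.yw h17tmTcw)
    (fun s _ => h17tm_rep_vg2 hB s)
  rw [h17tm_tab_T] at this
  exact this

theorem h17tm_rep_U0 : h17tmRep (h17tmU0 hB) h17tmTU := by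
  have := h17tm_rep_wprod (h17tmVg2 hB) h17tmVt2 (h17tmExp G.Pres.xw G.Pres.yw h17tmUcw)
    (fun s _ => h17tm_rep_vg2 hB s)
  rw [h17tm_tab_U] at this
  exact this

theorem h17tm_rep_X0 : h17tmRep (wprod (h17tmVg2 hB) G.Pres.xw) h17tmTX := by
  have := h17tm_rep_wprod (h17tmVg2 hB) h17tmVt2 G.Pres.xw (fun s _ => h17tm_rep_vg2 hB s)
  rwa [h17tm_tab_X] at this

theorem h17tm_Y0_eq : wprod (h17tmVg2 hB) G.Pres.yw = h17tmU0 hB := by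
  have := h17tm_rep_wprod (h17tmVg2 hB) h17tmVt2 G.Pres.yw (fun s _ => h17tm_rep_vg2 hB s)
  rw [h17tm_tab_Y] at this
  exact h17tm_rep_inj _ _ _ this (h17tm_rep_U0 hB)

theorem h17tm_T0_sq : h17tmT0 hB * h17tmT0 hB = 1 := by
  have := h17tm_rep_mul _ _ _ _ (h17tm_rep_T0 hB) (h17tm_rep_T0 hB)
  rw [h17tm_tab_TT] at this
  exact h17tm_rep_inj _ _ _ this h17tm_rep_one

theorem h17tm_T0_inv : (h17tmT0 hB)⁻¹ = h17tmT0 hB := inv_eq_of_mul_eq_one_right (h17tm_T0_sq hB)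

theorem h17tm_rep_U0sq : h17tmRep (h17tmU0 hB * h17tmU0 hB) h17tmTU2 := by
  have := h17tm_rep_mul _ _ _ _ (h17tm_rep_U0 hB) (h17tm_rep_U0 hB)
  rwa [h17tm_tab_U2] at this

theorem h17tm_U0_cube : h17tmU0 hB * (h17tmU0 hB * h17tmU0 hB) = 1 := by
  have := h17tm_rep_mul _ _ _ _ (h17tm_rep_U0 hB) (h17tm_rep_U0sq hB)
  rw [h17tm_tab_UUU] at this
  exact h17tm_rep_inj _ _ _ this h17tm_rep_one

theorem h17tm_U0_inv : (h17tmU0 hB)⁻¹ = h17tmU0 hB * h17tmU0 hB :=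
  inv_eq_of_mul_eq_one_right (h17tm_U0_cube hB)

/-- the letters of the second level as matrices -/
noncomputable def h17tmVg3 : ℕ → GL chevF4.Idx (ZMod 2) := h17tmV (h17tmT0 hB) (h17tmU0 hB) 1 1 1

theorem h17tm_rep_vg3 (n : ℕ) : h17tmRep (h17tmVg3 hB n) (h17tmVt3 n) := by
  unfold h17tmVg3
  by_cases h : n < 10
  · interval_cases n
    · exact h17tm_rep_T0 hB
    · show h17tmRep (h17tmT0 hB)⁻¹ h17tmTT
      rw [h17tm_T0_inv]
      exact h17tm_rep_T0 hB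
    · exact h17tm_rep_U0 hB
    · show h17tmRep (h17tmU0 hB)⁻¹ h17tmTU2
      rw [h17tm_U0_inv]
      exact h17tm_rep_U0sq hB
    · exact h17tm_rep_one
    · show h17tmRep (1 : GL chevF4.Idx (ZMod 2))⁻¹ h17tmTid
      rw [inv_one]
      exact h17tm_rep_one
    · exact h17tm_rep_one
    · show h17tmRep (1 : GL chevF4.Idx (ZMod 2))⁻¹ h17tmTid
      rw [inv_one]
      exact h17tm_rep_one
    · exact h17tm_rep_one
    · show h17tmRep (1 : GL chevF4.Idx (ZMod 2))⁻¹ h17tmTid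
      rw [inv_one]
      exact h17tm_rep_one
  · rw [h17tmV_ge _ _ _ _ _ _ h]
    obtain ⟨k, rfl⟩ : ∃ k, n = k + 10 := ⟨n - 10, by omega⟩
    exact h17tm_rep_one

theorem h17tm_H_S2 : wprod (h17tmVg3 hB) H.Pres.wS2 = 1 :=
  h17tm_wprod_eq_one _ _ _ (fun s _ => h17tm_rep_vg3 hB s) h17tm_tabH_S2

theorem h17tm_H_S1 : wprod (h17tmVg3 hB) H.Pres.wS1 = 1 :=
  h17tm_wprod_eq_one _ _ _ (fun s _ => h17tm_rep_vg3 hB s) h17tm_tabH_S1

theorem h17tm_H_R3 : wprod (h17tmVg3 hB) H.Pres.wR3 = 1 :=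
  h17tm_wprod_eq_one _ _ _ (fun s _ => h17tm_rep_vg3 hB s) h17tm_tabH_R3

theorem h17tm_H_R4 : wprod (h17tmVg3 hB) H.Pres.wR4 = 1 :=
  h17tm_wprod_eq_one _ _ _ (fun s _ => h17tm_rep_vg3 hB s) h17tm_tabH_R4

theorem h17tm_H_R5 : wprod (h17tmVg3 hB) H.Pres.wR5 = 1 :=
  h17tm_wprod_eq_one _ _ _ (fun s _ => h17tm_rep_vg3 hB s) h17tm_tabH_R5

theorem h17tm_H_Cs : ∀ p ∈ H.Pres.wCs, wprod (h17tmVg3 hB) p.1 = 1 := fun p hp =>
  h17tm_wprod_eq_one _ _ _ (fun s _ => h17tm_rep_vg3 hB s) (h17tm_tabH_Cs p hp)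

theorem h17tm_X0_word :
    wprod (h17tmVg2 hB) G.Pres.xw = wprod (h17tmVg3 hB) h17tmXwTU := by
  have := h17tm_rep_wprod (h17tmVg3 hB) h17tmVt3 h17tmXwTU (fun s _ => h17tm_rep_vg3 hB s)
  rw [h17tm_tab_XwTU] at this
  exact h17tm_rep_inj _ _ _ (h17tm_rep_X0 hB) this

theorem h17tm_X13 : wprod (h17tmVg3 hB) H.Pres.Xw ^ 13 = 1 := by
  rw [← h17tm_wprod_PW]
  exact h17tm_wprod_eq_one _ _ _ (fun s _ => h17tm_rep_vg3 hB s) h17tm_tab_X13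

theorem h17tm_XW : (wprod (h17tmVg3 hB) H.Pres.Ww)⁻¹ * wprod (h17tmVg3 hB) H.Pres.Xw *
    wprod (h17tmVg3 hB) H.Pres.Ww = wprod (h17tmVg3 hB) H.Pres.Xw ^ 9 := by
  have h := h17tm_wprod_eq (h17tmVg3 hB) h17tmVt3 _ _ (fun s _ => h17tm_rep_vg3 hB s)
    (fun s _ => h17tm_rep_vg3 hB s) h17tm_tab_XW
  rw [wprod_append, wprod_append, h17tm_wprod_PW,
    h17tm_wprod_IW (h17tmVg3 hB) (h17tmV_IL (h17tmT0 hB) (h17tmU0 hB) 1 1 1)] at h
  exact h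

end Cfsg.Agent.Lib.Helper17.TitsM
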