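import Cfsg.Agent.Lib.helper17.TitsM.Model3
import Cfsg.Agent.Lib.helper8.ChevTI15

/-!
The two generators of the Tits group: membership and generation (helper17).
-/

set_option autoImplicit false

namespace Cfsg.Agent.Lib.Helper17.TitsM

open Cfsg.Lie Cfsg.Lie.ChevalleyDatum Cfsg.Agent.Lib.helper8 Cfsg.Agent.Lib.Helper12.TC

open scoped commutatorElement

theorem h17tm_hB : H8Base.{0} chevF4 := h8base_all.{0} chevF4 (by simp)

/-- the embedding of the Tits group in `GL₅₂(2)` -/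
noncomputable def h17tmIota : TitsGroup →* GL chevF4.Idx (ZMod 2) :=
  (twistedF4 (ZMod 2) 1).subtype.comp (commutator ↥(twistedF4 (ZMod 2) 1)).subtype

theorem h17tmIota_inj : Function.Injective h17tmIota := by
  intro x y h
  apply Subtype.ext
  apply Subtype.ext
  exact h

/-- an element of finite order which conjugates the generators of a subgroup into it normalizes it -/
theorem h17tm_mem_normalizer {Φ : Type*} [Group Φ] (S : Set Φ) (g : Φ) (n : ℕ) (hn : g ^ (n + 1) = 1)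
    (hS : ∀ s ∈ S, g * s * g⁻¹ ∈ Subgroup.closure S) :
    g ∈ Subgroup.normalizer (Subgroup.closure S : Set Φ) := by
  set M := Subgroup.closure S with hM
  have h1 : ∀ h ∈ M, g * h * g⁻¹ ∈ M := by
    intro h hh
    induction hh using Subgroup.closure_induction with
    | mem x hx => exact hS x hx
    | one => simp [M.one_mem]
    | mul x y _ _ hx hy =>
      have : g * (x * y) * g⁻¹ = (g * x * g⁻¹) * (g * y * g⁻¹) := by group
      rw [this]
      exact M.mul_mem hx hy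
    | inv x _ hx =>
      have : g * x⁻¹ * g⁻¹ = (g * x * g⁻¹)⁻¹ := by group
      rw [this]
      exact M.inv_mem hx
  have h2 : ∀ k : ℕ, ∀ h ∈ M, g ^ k * h * (g ^ k)⁻¹ ∈ M := by
    intro k
    induction k with
    | zero => intro h hh; simpa using hh
    | succ k ih =>
      intro h hh
      have : g ^ (k + 1) * h * (g ^ (k + 1))⁻¹ = g * (g ^ k * h * (g ^ k)⁻¹) * g⁻¹ := by
        rw [pow_succ']; group
      rw [this]
      exact h1 _ (ih h hh)
  have hginv : g⁻¹ = g ^ n := by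
    rw [pow_succ] at hn
    exact (eq_inv_of_mul_eq_one_left hn).symm
  rw [Subgroup.mem_normalizer_iff]
  intro h
  constructor
  · exact h1 h
  · intro hh
    have := h2 n _ hh
    rw [← hginv, inv_inv] at this
    have e : g⁻¹ * (g * h * g⁻¹) * g = h := by group
    rwa [e] at this

/-- a subgroup of `²F₄(2)` containing the four generators is everything -/
theorem h17tm_gen_top (hB : H8Base.{0} chevF4) (R : H8TF (ZMod 2) hB)
    (hfe : ∀ t : ZMod 2, R.f t = t ^ 1) (Z : Subgroup ↥(twistedF4 (ZMod 2) 1))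
    (A1 B1 A2 B2 : ↥(twistedF4 (ZMod 2) 1))
    (h1 : A1.val = h8tiW hB h8twa1) (h2 : B1.val = h8tiW hB h8twb1)
    (h3 : A2.val = h8tiW hB h8twa2) (h4 : B2.val = h8tiW hB h8twb2)
    (m1 : A1 ∈ Z) (m2 : B1 ∈ Z) (hA2Z : A2 ∈ Z) (hB2Z : B2 ∈ Z) : Z = ⊤ := by
  have hle : twistedF4 (ZMod 2) 1 ≤ Z.map (twistedF4 (ZMod 2) 1).subtype := by
    apply h8tf_gen_le R 1 hfe
    · intro t
      rcases h8tw_pair_cases hB R 33 24 t with h | h
      · rw [h]; exact Subgroup.one_mem _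
      · rw [h]; exact ⟨A1, m1, h1⟩
    · intro t
      rcases h8tw_pair_cases hB R 14 23 t with h | h
      · rw [h]; exact Subgroup.one_mem _
      · rw [h]; exact ⟨B1, m2, h2⟩
    · intro t v
      rcases h8tw_cls_cases hB R 27 25 28 30 t v with h | h | h | h
      · rw [h]; exact Subgroup.one_mem _
      · rw [h]; exact ⟨A2, hA2Z, h3⟩
      · rw [h, h8tw_a2_two]
        exact ⟨A2 * A2, Z.mul_mem hA2Z hA2Z, by
          rw [Subgroup.subtype_apply, Subgroup.coe_mul, h3]⟩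
      · rw [h, h8tw_a2_three]
        exact ⟨A2 * A2 * A2, Z.mul_mem (Z.mul_mem hA2Z hA2Z) hA2Z, by
          rw [Subgroup.subtype_apply, Subgroup.coe_mul, Subgroup.coe_mul, h3]⟩
    · intro t v
      rcases h8tw_cls_cases hB R 20 22 19 17 t v with h | h | h | h
      · rw [h]; exact Subgroup.one_mem _
      · rw [h]; exact ⟨B2, hB2Z, h4⟩
      · rw [h, h8tw_b2_two]
        exact ⟨B2 * B2, Z.mul_mem hB2Z hB2Z, by
          rw [Subgroup.subtype_apply, Subgroup.coe_mul, h4]⟩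
      · rw [h, h8tw_b2_three]
        exact ⟨B2 * B2 * B2, Z.mul_mem (Z.mul_mem hB2Z hB2Z) hB2Z, by
          rw [Subgroup.subtype_apply, Subgroup.coe_mul, Subgroup.coe_mul, h4]⟩
  rw [eq_top_iff]
  intro g _
  obtain ⟨z, hz, hzg⟩ := hle g.2
  have : z = g := Subtype.ext hzg
  rwa [this] at hz

/-- the two generators lie in the Tits group and generate it -/
theorem h17tm_model : ∃ a b : TitsGroup, h17tmIota a = h17tmA0 h17tm_hB ∧
    h17tmIota b = h17tmB0 h17tm_hB ∧
    ∀ g : TitsGroup, h17tmIota g ∈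
      Subgroup.closure {h17tmA0 h17tm_hB, h17tmB0 h17tm_hB} := by
  have hB := h17tm_hB
  obtain ⟨R, hfe⟩ := h8tw_setup hB
  obtain ⟨A1, h1⟩ : ∃ g : ↥(twistedF4 (ZMod 2) 1), g.val = h8tiW hB h8twa1 :=
    ⟨⟨_, h8tw_a1_mem hB R hfe⟩, rfl⟩
  obtain ⟨B1, h2⟩ : ∃ g : ↥(twistedF4 (ZMod 2) 1), g.val = h8tiW hB h8twb1 :=
    ⟨⟨_, h8tw_b1_mem hB R hfe⟩, rfl⟩
  obtain ⟨A2, h3⟩ : ∃ g : ↥(twistedF4 (ZMod 2) 1), g.val = h8tiW hB h8twa2 :=
    ⟨⟨_, h8tw_a2_mem hB R hfe⟩, rfl⟩
  obtain ⟨B2, h4⟩ : ∃ g : ↥(twistedF4 (ZMod 2) 1), g.val = h8tiW hB h8twb2 :=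
    ⟨⟨_, h8tw_b2_mem hB R hfe⟩, rfl⟩
  obtain ⟨m1, m2, m3, -⟩ := h8tw_gens_comm hB A1 B1 A2 B2 h1 h2 h3 h4
  set T := commutator ↥(twistedF4 (ZMod 2) 1) with hT
  have hidx : T.index = 2 := h8tw_index_two
  set aF : ↥(twistedF4 (ZMod 2) 1) := A2 * A2 with haF
  set g0 : ↥(twistedF4 (ZMod 2) 1) := A1 * B2 * B1 with hg0
  set bF : ↥(twistedF4 (ZMod 2) 1) := (g0 * g0) * (g0 * g0) with hbF
  have haT : aF ∈ T := m3
  have hbT : bF ∈ T := T.mul_mem (Subgroup.mul_self_mem_of_index_two hidx g0)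
    (Subgroup.mul_self_mem_of_index_two hidx g0)
  have hav : aF.val = h17tmA0 hB := by
    rw [h17tm_A0_eq, haF, Subgroup.coe_mul, h3]
  have hbv : bF.val = h17tmB0 hB := by
    rw [h17tm_B0_eq, hbF, hg0]
    simp only [Subgroup.coe_mul, h1, h2, h4]
  -- words in the two generators
  set vF : ℕ → ↥(twistedF4 (ZMod 2) 1) := h17tmV aF bF 1 1 1 with hvF
  have hvFv : ∀ w : List ℕ, (wprod vF w).val = wprod (h17tmVg2 hB) w := by
    intro w
    have := h17tm_wprod_map (twistedF4 (ZMod 2) 1).subtype vF w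
    rw [Subgroup.subtype_apply] at this
    rw [← this]
    apply h17tm_wprod_congr
    intro s _
    rw [hvF, h17tmV_map, Subgroup.subtype_apply, Subgroup.subtype_apply, hav, hbv, map_one]
    rfl
  set M := Subgroup.closure ({aF, bF} : Set ↥(twistedF4 (ZMod 2) 1)) with hM
  have haM : aF ∈ M := Subgroup.subset_closure (by simp)
  have hbM : bF ∈ M := Subgroup.subset_closure (by simp)
  have hwM : ∀ w : List ℕ, wprod vF w ∈ M := fun w =>
    h17tm_wprod_mem M vF (h17tmV_mem M _ _ _ _ _ haM hbM M.one_mem M.one_mem M.one_mem) w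
  have hA1M : A1 ∈ M := by
    have : A1 = wprod vF h17tmWA1 := by
      apply Subtype.ext
      rw [hvFv, h1, h17tm_A1_word]
    rw [this]
    exact hwM _
  have hB1M : B1 ∈ M := by
    have : B1 = wprod vF h17tmWB1 := by
      apply Subtype.ext
      rw [hvFv, h2, h17tm_B1_word]
    rw [this]
    exact hwM _
  have hB2e : B2 = wprod vF h17tmWB2A2 * A2 := by
    apply Subtype.ext
    rw [Subgroup.coe_mul, hvFv, h4, h3, h17tm_B2_word]
  have hA2b : A2 * bF * A2⁻¹ = wprod vF h17tmWA2b := by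
    rw [mul_inv_eq_iff_eq_mul]
    apply Subtype.ext
    have e1 : (A2 * bF).val = A2.val * bF.val := rfl
    have e2 : (wprod vF h17tmWA2b * A2).val = (wprod vF h17tmWA2b).val * A2.val := rfl
    rw [e1, e2, hvFv, hbv, h3]
    exact h17tm_A2b_word hB
  have hA2a : A2 * aF * A2⁻¹ = aF := by
    rw [haF]; group
  have hA2four : A2 ^ (3 + 1) = 1 := by
    have e0 : A2 ^ (3 + 1) = A2 * (A2 * A2 * A2) := by
      rw [pow_succ', pow_succ', pow_succ', pow_one, mul_assoc A2 A2 A2]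
    rw [e0]
    apply Subtype.ext
    have e1 : (A2 * (A2 * A2 * A2)).val = A2.val * (A2.val * A2.val * A2.val) := rfl
    rw [e1, h3]
    exact h8tw_a2_four hB
  have hA2N : A2 ∈ Subgroup.normalizer (M : Set ↥(twistedF4 (ZMod 2) 1)) := by
    apply h17tm_mem_normalizer _ A2 3 hA2four
    intro s hs
    rcases hs with rfl | rfl
    · rw [hA2a]; exact haM
    · rw [hA2b]; exact hwM _
  have hMN : M ≤ Subgroup.normalizer (M : Set ↥(twistedF4 (ZMod 2) 1)) := Subgroup.le_normalizer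
  have hNtop : Subgroup.normalizer (M : Set ↥(twistedF4 (ZMod 2) 1)) = ⊤ := by
    apply h17tm_gen_top hB R hfe _ A1 B1 A2 B2 h1 h2 h3 h4 (hMN hA1M) (hMN hB1M) hA2N
    rw [hB2e]
    exact Subgroup.mul_mem _ (hMN (hwM _)) hA2N
  have hMnormal : M.Normal := Subgroup.normalizer_eq_top_iff.mp hNtop
  have hMT : M ≤ T := by
    rw [hM, Subgroup.closure_le]
    intro x hx
    rcases hx with rfl | rfl
    · exact haT
    · exact hbT
  -- simplicity
  obtain ⟨hsimple, -, -⟩ := h8tw_tits_main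
  have hMTn : (M.subgroupOf T).Normal := hMnormal.subgroupOf T
  have hcase := hsimple.eq_bot_or_eq_top_of_normal (M.subgroupOf T) hMTn
  have hMtop : M.subgroupOf T = ⊤ := by
    rcases hcase with hbot | htop
    · exfalso
      have hA1b : (⟨A1, m1⟩ : ↥T) ∈ M.subgroupOf T := Subgroup.mem_subgroupOf.mpr hA1M
      have hB1b : (⟨B1, m2⟩ : ↥T) ∈ M.subgroupOf T := Subgroup.mem_subgroupOf.mpr hB1M
      rw [hbot, Subgroup.mem_bot] at hA1b hB1b
      have eA : A1 = 1 := congrArg Subtype.val hA1b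
      have eB : B1 = 1 := congrArg Subtype.val hB1b
      apply h8tw_a1b1_ne hB
      rw [← h1, ← h2, eA, eB]
    · exact htop
  refine ⟨⟨aF, haT⟩, ⟨bF, hbT⟩, hav, hbv, ?_⟩
  intro g
  have hg : g ∈ M.subgroupOf T := by rw [hMtop]; exact Subgroup.mem_top g
  have hgM : g.val ∈ M := Subgroup.mem_subgroupOf.mp hg
  have hmap : M.map (twistedF4 (ZMod 2) 1).subtype =
      Subgroup.closure {h17tmA0 hB, h17tmB0 hB} := by
    rw [hM, MonoidHom.map_closure, Set.image_pair, Subgroup.subtype_apply, Subgroup.subtype_apply,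
      hav, hbv]
  rw [← hmap]
  exact ⟨g.val, hgM, rfl⟩

end Cfsg.Agent.Lib.Helper17.TitsM
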