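import Mathlib
import Cfsg.Agent.Lib.Helper12.TCG.Parts

/-!
Generic lemmas about stem extensions used for the Schur multiplier of the Tits group (helper17):
generation by lifts, commutators modulo central elements, central adjustment of lifts.
-/

set_option autoImplicit false

namespace Cfsg.Agent.Lib.Helper17.TitsM

open Cfsg.Agent.Lib.Helper12.TC

open scoped commutatorElement

theorem h17tm_comm_central_left {Λ : Type*} [Group Λ] (m z h : Λ) (hz : z ∈ Subgroup.center Λ) :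
    ⁅m * z, h⁆ = ⁅m, h⁆ := by
  have hzc := Subgroup.mem_center_iff.mp hz
  rw [commutatorElement_def, commutatorElement_def, mul_inv_rev]
  have e1 : m * z * h * (z⁻¹ * m⁻¹) * h⁻¹ = m * (z * h * z⁻¹) * m⁻¹ * h⁻¹ := by group
  rw [e1, ← hzc h, mul_inv_cancel_right]

theorem h17tm_comm_central_right {Λ : Type*} [Group Λ] (g m z : Λ) (hz : z ∈ Subgroup.center Λ) :
    ⁅g, m * z⁆ = ⁅g, m⁆ := by
  have hzc := Subgroup.mem_center_iff.mp hz
  rw [commutatorElement_def, commutatorElement_def, mul_inv_rev]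
  have e1 : g * (m * z) * g⁻¹ * (z⁻¹ * m⁻¹) = g * m * (z * g⁻¹ * z⁻¹) * m⁻¹ := by group
  rw [e1, ← hzc g⁻¹, mul_inv_cancel_right]

/-- a stem extension is generated by lifts of generators -/
theorem h17tm_closure_eq_top {Λ G₀ : Type*} [Group Λ] [Group G₀] (τ : Λ →* G₀)
    (hc : τ.ker ≤ Subgroup.center Λ) (hk : τ.ker ≤ commutator Λ)
    (S : Set Λ) (hS : ∀ g : Λ, τ g ∈ Subgroup.closure (τ '' S)) :
    Subgroup.closure S = ⊤ := by
  set M := Subgroup.closure S with hM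
  have hdec : ∀ g : Λ, ∃ m ∈ M, ∃ z ∈ τ.ker, g = m * z := by
    intro g
    have h := hS g
    rw [← MonoidHom.map_closure] at h
    obtain ⟨m, hm, hmg⟩ := h
    refine ⟨m, hm, m⁻¹ * g, ?_, by group⟩
    rw [MonoidHom.mem_ker, map_mul, map_inv, hmg, inv_mul_cancel]
  have hcommM : ⁅M, M⁆ ≤ M := by
    rw [Subgroup.commutator_le]
    intro g hg h hh
    rw [commutatorElement_def]
    exact M.mul_mem (M.mul_mem (M.mul_mem hg hh) (M.inv_mem hg)) (M.inv_mem hh)
  have hcomm : commutator Λ ≤ M := by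
    rw [commutator_def, Subgroup.commutator_le]
    intro g _ h _
    obtain ⟨m, hm, z, hz, rfl⟩ := hdec g
    obtain ⟨m', hm', z', hz', rfl⟩ := hdec h
    rw [h17tm_comm_central_left _ _ _ (hc hz), h17tm_comm_central_right _ _ _ (hc hz')]
    exact hcommM (Subgroup.commutator_mem_commutator hm hm')
  rw [eq_top_iff]
  intro g _
  obtain ⟨m, hm, z, hz, rfl⟩ := hdec g
  exact M.mul_mem hm (hcomm (hk hz))

/-- the ten letters: two generators, three central elements, with their inverses -/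
def h17tmV {Λ : Type*} [Group Λ] (a b q r s : Λ) : ℕ → Λ
  | 0 => a
  | 1 => a⁻¹
  | 2 => b
  | 3 => b⁻¹
  | 4 => q
  | 5 => q⁻¹
  | 6 => r
  | 7 => r⁻¹
  | 8 => s
  | 9 => s⁻¹
  | _ => 1

theorem h17tmV_ge {Λ : Type*} [Group Λ] (a b q r s : Λ) (n : ℕ) (h : ¬ n < 10) :
    h17tmV a b q r s n = 1 := by
  obtain ⟨k, rfl⟩ : ∃ k, n = k + 10 := ⟨n - 10, by omega⟩
  rfl

/-- the inverse letter -/
def h17tmIL (s : ℕ) : ℕ := if s % 2 = 0 then s + 1 else s - 1

theorem h17tmV_IL {Λ : Type*} [Group Λ] (a b q r s : Λ) (n : ℕ) :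
    h17tmV a b q r s (h17tmIL n) = (h17tmV a b q r s n)⁻¹ := by
  by_cases h : n < 10
  · interval_cases n <;> simp [h17tmIL, h17tmV]
  · have h2 : ¬ h17tmIL n < 10 := by
      unfold h17tmIL
      split_ifs <;> omega
    rw [h17tmV_ge _ _ _ _ _ _ h, h17tmV_ge _ _ _ _ _ _ h2, inv_one]

/-- the inverse word -/
def h17tmIW (w : List ℕ) : List ℕ := (w.map h17tmIL).reverse

/-- the commutator word -/
def h17tmCW (u v : List ℕ) : List ℕ := h17tmIW u ++ h17tmIW v ++ u ++ v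

/-- the power of a word -/
def h17tmPW (w : List ℕ) (n : ℕ) : List ℕ := (List.replicate n w).flatten

theorem h17tm_wprod_IW {Λ : Type*} [Group Λ] (v : ℕ → Λ) (hv : ∀ n, v (h17tmIL n) = (v n)⁻¹)
    (w : List ℕ) : wprod v (h17tmIW w) = (wprod v w)⁻¹ := by
  induction w with
  | nil => simp [h17tmIW, wprod_nil]
  | cons s w ih =>
    unfold h17tmIW at ih ⊢
    rw [List.map_cons, List.reverse_cons, wprod_append, ih, wprod_cons, wprod_cons, wprod_nil,
      mul_one, hv, mul_inv_rev]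

theorem h17tm_wprod_CW {Λ : Type*} [Group Λ] (v : ℕ → Λ) (hv : ∀ n, v (h17tmIL n) = (v n)⁻¹)
    (u w : List ℕ) : wprod v (h17tmCW u w) =
      (wprod v u)⁻¹ * (wprod v w)⁻¹ * wprod v u * wprod v w := by
  unfold h17tmCW
  rw [wprod_append, wprod_append, wprod_append, h17tm_wprod_IW v hv, h17tm_wprod_IW v hv]

theorem h17tm_wprod_PW {Λ : Type*} [Group Λ] (v : ℕ → Λ) (w : List ℕ) (n : ℕ) :
    wprod v (h17tmPW w n) = wprod v w ^ n := by
  unfold h17tmPW
  induction n with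
  | zero => simp [wprod_nil]
  | succ n ih => rw [List.replicate_succ, List.flatten_cons, wprod_append, ih, pow_succ']

theorem h17tm_wprod_map {Λ K : Type*} [Group Λ] [Group K] (φ : Λ →* K) (u : ℕ → Λ) (l : List ℕ) :
    wprod (fun s => φ (u s)) l = φ (wprod u l) := by
  induction l with
  | nil => rw [wprod_nil, wprod_nil, map_one]
  | cons s l ih => rw [wprod_cons, wprod_cons, ih, map_mul]

theorem h17tm_wprod_congr {Λ : Type*} [Group Λ] (f g : ℕ → Λ) (w : List ℕ)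
    (h : ∀ s ∈ w, f s = g s) : wprod f w = wprod g w := by
  induction w with
  | nil => rfl
  | cons s w ih =>
    rw [wprod_cons, wprod_cons, h s List.mem_cons_self,
      ih (fun t ht => h t (List.mem_cons_of_mem _ ht))]

theorem h17tmV_map {Λ K : Type*} [Group Λ] [Group K] (φ : Λ →* K) (a b q r s : Λ) (n : ℕ) :
    φ (h17tmV a b q r s n) = h17tmV (φ a) (φ b) (φ q) (φ r) (φ s) n := by
  by_cases h : n < 10
  · interval_cases n <;> simp [h17tmV]
  · rw [h17tmV_ge _ _ _ _ _ _ h, h17tmV_ge _ _ _ _ _ _ h, map_one]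

/-- multiplying the letters by central elements multiplies a word by the product of these -/
theorem h17tm_wprod_central {Λ : Type*} [Group Λ] (f c : ℕ → Λ)
    (hc : ∀ n, c n ∈ Subgroup.center Λ) (w : List ℕ) :
    wprod (fun n => f n * c n) w = wprod f w * wprod c w := by
  induction w with
  | nil => simp [wprod_nil]
  | cons t w ih =>
    rw [wprod_cons, wprod_cons, wprod_cons, ih]
    have h := Subgroup.mem_center_iff.mp (hc t) (wprod f w)
    calc f t * c t * (wprod f w * wprod c w) = f t * (c t * wprod f w) * wprod c w := by group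
      _ = f t * (wprod f w * c t) * wprod c w := by rw [h]
      _ = f t * wprod f w * (c t * wprod c w) := by group

/-- exponent sum of a letter -/
def h17tmEx (l : ℕ) (w : List ℕ) : ℤ := (w.count l : ℤ) - (w.count (l + 1) : ℤ)

/-- the central factors -/
def h17tmC {Λ : Type*} [Group Λ] (za zb : Λ) : ℕ → Λ
  | 0 => za
  | 1 => za⁻¹
  | 2 => zb
  | 3 => zb⁻¹
  | _ => 1

theorem h17tmC_ge {Λ : Type*} [Group Λ] (za zb : Λ) (n : ℕ) (h : ¬ n < 4) :
    h17tmC za zb n = 1 := by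
  obtain ⟨k, rfl⟩ : ∃ k, n = k + 4 := ⟨n - 4, by omega⟩
  rfl

theorem h17tm_wprod_C {Λ : Type*} [Group Λ] (za zb : Λ) (hcomm : Commute za zb) (w : List ℕ) :
    wprod (h17tmC za zb) w = za ^ h17tmEx 0 w * zb ^ h17tmEx 2 w := by
  induction w with
  | nil => simp [wprod_nil, h17tmEx]
  | cons t w ih =>
    rw [wprod_cons, ih]
    by_cases h : t < 4
    · interval_cases t
      · have e0 : h17tmEx 0 (0 :: w) = 1 + h17tmEx 0 w := by
          simp [h17tmEx]; ring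
        have e2 : h17tmEx 2 (0 :: w) = h17tmEx 2 w := by
          simp [h17tmEx]
        rw [e0, e2, zpow_one_add, mul_assoc]
        rfl
      · have e0 : h17tmEx 0 (1 :: w) = -1 + h17tmEx 0 w := by
          simp [h17tmEx]; ring
        have e2 : h17tmEx 2 (1 :: w) = h17tmEx 2 w := by
          simp [h17tmEx]
        rw [e0, e2, zpow_add, zpow_neg_one, mul_assoc]
        rfl
      · have e0 : h17tmEx 0 (2 :: w) = h17tmEx 0 w := by
          simp [h17tmEx]
        have e2 : h17tmEx 2 (2 :: w) = 1 + h17tmEx 2 w := by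
          simp [h17tmEx]; ring
        rw [e0, e2, zpow_one_add]
        show zb * (za ^ h17tmEx 0 w * zb ^ h17tmEx 2 w) = _
        rw [← mul_assoc, ← mul_assoc, (hcomm.zpow_left (h17tmEx 0 w)).eq]
      · have e0 : h17tmEx 0 (3 :: w) = h17tmEx 0 w := by
          simp [h17tmEx]
        have e2 : h17tmEx 2 (3 :: w) = -1 + h17tmEx 2 w := by
          simp [h17tmEx]; ring
        rw [e0, e2, zpow_add, zpow_neg_one]
        show zb⁻¹ * (za ^ h17tmEx 0 w * zb ^ h17tmEx 2 w) = _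
        rw [← mul_assoc, ← mul_assoc, ((hcomm.zpow_left (h17tmEx 0 w)).inv_right).eq]
    · have e0 : h17tmEx 0 (t :: w) = h17tmEx 0 w := by
        have h0 : ¬ t = 0 := by omega
        have h1 : ¬ t = 1 := by omega
        simp [h17tmEx, h0, h1]
      have e2 : h17tmEx 2 (t :: w) = h17tmEx 2 w := by
        have h0 : ¬ t = 2 := by omega
        have h1 : ¬ t = 3 := by omega
        simp [h17tmEx, h0, h1]
      rw [e0, e2, h17tmC_ge _ _ _ h, one_mul]

theorem h17tmV_adjust {Λ : Type*} [Group Λ] (a b q r s za zb : Λ)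
    (hza : za ∈ Subgroup.center Λ) (hzb : zb ∈ Subgroup.center Λ) (n : ℕ) :
    h17tmV (a * za) (b * zb) q r s n = h17tmV a b q r s n * h17tmC za zb n := by
  have ha := Subgroup.mem_center_iff.mp hza
  have hb := Subgroup.mem_center_iff.mp hzb
  by_cases h : n < 10
  · interval_cases n
    · rfl
    · show (a * za)⁻¹ = a⁻¹ * za⁻¹
      rw [mul_inv_rev]
      exact (Subgroup.mem_center_iff.mp (Subgroup.inv_mem _ hza) a⁻¹).symm
    · rfl
    · show (b * zb)⁻¹ = b⁻¹ * zb⁻¹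
      rw [mul_inv_rev]
      exact (Subgroup.mem_center_iff.mp (Subgroup.inv_mem _ hzb) b⁻¹).symm
    all_goals exact (mul_one _).symm
  · rw [h17tmV_ge _ _ _ _ _ _ h, h17tmV_ge _ _ _ _ _ _ h, h17tmC_ge _ _ _ (by omega), mul_one]

/-- the effect on a word of multiplying the two generators by central elements -/
theorem h17tm_adjust {Λ : Type*} [Group Λ] (a b q r s za zb : Λ)
    (hza : za ∈ Subgroup.center Λ) (hzb : zb ∈ Subgroup.center Λ) (w : List ℕ) :
    wprod (h17tmV (a * za) (b * zb) q r s) w =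
      wprod (h17tmV a b q r s) w * (za ^ h17tmEx 0 w * zb ^ h17tmEx 2 w) := by
  have hcomm : Commute za zb := Subgroup.mem_center_iff.mp hzb za
  rw [← h17tm_wprod_C za zb hcomm, ← h17tm_wprod_central]
  · apply h17tm_wprod_congr
    intro n _
    exact h17tmV_adjust a b q r s za zb hza hzb n
  · intro n
    by_cases h : n < 4
    · interval_cases n
      · exact hza
      · exact Subgroup.inv_mem _ hza
      · exact hzb
      · exact Subgroup.inv_mem _ hzb
    · rw [h17tmC_ge _ _ _ h]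
      exact Subgroup.one_mem _

theorem h17tm_solve_comm {C : Type*} [CommGroup C] (c1 c2 : C)
    (e11 e12 n11 n12 n21 n22 α β : ℤ)
    (hα : e11 * n11 + e12 * n21 = α) (hβ : e11 * n12 + e12 * n22 = β) :
    (c1 ^ n11 * c2 ^ n12) ^ e11 * (c1 ^ n21 * c2 ^ n22) ^ e12 = c1 ^ α * c2 ^ β := by
  rw [mul_zpow, mul_zpow, ← zpow_mul, ← zpow_mul, ← zpow_mul, ← zpow_mul, mul_mul_mul_comm,
    ← zpow_add, ← zpow_add, ← hα, ← hβ]
  congr 2 <;> ring

open scoped IsMulCommutative in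
/-- solving for the central adjustments -/
theorem h17tm_solve {Λ : Type*} [Group Λ] (s1 s2 : Λ) (h1 : s1 ∈ Subgroup.center Λ)
    (h2 : s2 ∈ Subgroup.center Λ) (e11 e12 e21 e22 n11 n12 n21 n22 : ℤ)
    (hE1 : e11 * n11 + e12 * n21 = -1) (hE2 : e11 * n12 + e12 * n22 = 0)
    (hE3 : e21 * n11 + e22 * n21 = 0) (hE4 : e21 * n12 + e22 * n22 = -1) :
    s1 * ((s1 ^ n11 * s2 ^ n12) ^ e11 * (s1 ^ n21 * s2 ^ n22) ^ e12) = 1 ∧
      s2 * ((s1 ^ n11 * s2 ^ n12) ^ e21 * (s1 ^ n21 * s2 ^ n22) ^ e22) = 1 := by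
  let c1 : Subgroup.center Λ := ⟨s1, h1⟩
  let c2 : Subgroup.center Λ := ⟨s2, h2⟩
  have k1 : c1 * ((c1 ^ n11 * c2 ^ n12) ^ e11 * (c1 ^ n21 * c2 ^ n22) ^ e12) = 1 := by
    rw [h17tm_solve_comm c1 c2 e11 e12 n11 n12 n21 n22 (-1) 0 hE1 hE2, zpow_zero, mul_one,
      zpow_neg_one, mul_inv_cancel]
  have k2 : c2 * ((c1 ^ n11 * c2 ^ n12) ^ e21 * (c1 ^ n21 * c2 ^ n22) ^ e22) = 1 := by
    rw [h17tm_solve_comm c1 c2 e21 e22 n11 n12 n21 n22 0 (-1) hE3 hE4, zpow_zero, one_mul,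
      zpow_neg_one, mul_inv_cancel]
  have k1' := congrArg Subtype.val k1
  have k2' := congrArg Subtype.val k2
  simp only [Subgroup.coe_mul, Subgroup.coe_zpow, Subgroup.coe_one] at k1' k2'
  exact ⟨k1', k2'⟩

/-- the pairs of mutually inverse letters -/
def h17tmPairs : List (List ℕ) :=
  [[0, 1], [1, 0], [2, 3], [3, 2], [4, 5], [5, 4], [6, 7], [7, 6], [8, 9], [9, 8]]

/-- the relators making three letters central -/
def h17tmCent : List (List ℕ) :=
  [h17tmCW [4] [0], h17tmCW [4] [2], h17tmCW [6] [0], h17tmCW [6] [2], h17tmCW [8] [0],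
    h17tmCW [8] [2]]

/-- the base words of a centralized presentation on two generators -/
def h17tmBase (S2 S1 : List ℕ) (Cs : List (List ℕ × List ℕ)) (R3 R4 R5 : List ℕ) :
    List (List ℕ) :=
  [S2, S1] ++ Cs.map (fun p => h17tmCW p.1 p.2) ++ [R3 ++ [5], R4 ++ [7], R5 ++ [9]] ++
    h17tmCent ++ h17tmPairs ++ [[]]

theorem h17tmV_low {Λ : Type*} [Group Λ] (a b q r s : Λ) (w : List ℕ) (hw : ∀ t ∈ w, t < 4) :
    wprod (h17tmV a b q r s) w = wprod (h17tmV a b 1 1 1) w := by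
  apply h17tm_wprod_congr
  intro t ht
  have := hw t ht
  interval_cases t <;> rfl

theorem h17tm_mem_ker {Λ G₀ : Type*} [Group Λ] [Group G₀] (τ : Λ →* G₀) (a b za zb : Λ)
    (hza : za ∈ τ.ker) (hzb : zb ∈ τ.ker) (w : List ℕ)
    (h : wprod (h17tmV (τ a) (τ b) 1 1 1) w = 1) :
    wprod (h17tmV (a * za) (b * zb) 1 1 1) w ∈ τ.ker := by
  rw [MonoidHom.mem_ker, ← h17tm_wprod_map]
  rw [← h]
  apply h17tm_wprod_congr
  intro t _
  rw [h17tmV_map, map_mul, map_mul, MonoidHom.mem_ker.mp hza, MonoidHom.mem_ker.mp hzb, mul_one,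
    mul_one, map_one]

/-- the lifts of two generators, suitably multiplied by central elements, satisfy the centralized
presentation -/
theorem h17tm_level {Λ G₀ : Type*} [Group Λ] [Group G₀] (τ : Λ →* G₀)
    (hc : τ.ker ≤ Subgroup.center Λ) (a b : Λ)
    (S2 S1 : List ℕ) (Cs : List (List ℕ × List ℕ)) (R3 R4 R5 : List ℕ)
    (hlS2 : ∀ t ∈ S2, t < 4) (hlS1 : ∀ t ∈ S1, t < 4) (hlC : ∀ p ∈ Cs, ∀ t ∈ p.1, t < 4)
    (hl3 : ∀ t ∈ R3, t < 4) (hl4 : ∀ t ∈ R4, t < 4) (hl5 : ∀ t ∈ R5, t < 4)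
    (hS2 : wprod (h17tmV (τ a) (τ b) 1 1 1) S2 = 1)
    (hS1 : wprod (h17tmV (τ a) (τ b) 1 1 1) S1 = 1)
    (hCs : ∀ p ∈ Cs, wprod (h17tmV (τ a) (τ b) 1 1 1) p.1 = 1)
    (hR3 : wprod (h17tmV (τ a) (τ b) 1 1 1) R3 = 1)
    (hR4 : wprod (h17tmV (τ a) (τ b) 1 1 1) R4 = 1)
    (hR5 : wprod (h17tmV (τ a) (τ b) 1 1 1) R5 = 1)
    (n11 n12 n21 n22 : ℤ)
    (hE1 : h17tmEx 0 S1 * n11 + h17tmEx 2 S1 * n21 = -1)
    (hE2 : h17tmEx 0 S1 * n12 + h17tmEx 2 S1 * n22 = 0)
    (hE3 : h17tmEx 0 S2 * n11 + h17tmEx 2 S2 * n21 = 0)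
    (hE4 : h17tmEx 0 S2 * n12 + h17tmEx 2 S2 * n22 = -1) :
    ∃ za ∈ τ.ker, ∃ zb ∈ τ.ker, ∃ q ∈ τ.ker, ∃ r ∈ τ.ker, ∃ s ∈ τ.ker,
      ∀ w ∈ h17tmBase S2 S1 Cs R3 R4 R5, wprod (h17tmV (a * za) (b * zb) q r s) w = 1 := by
  have h1k : (1 : Λ) ∈ τ.ker := Subgroup.one_mem _
  have hs1 : wprod (h17tmV a b 1 1 1) S1 ∈ τ.ker := by
    have := h17tm_mem_ker τ a b 1 1 h1k h1k S1 hS1
    rwa [mul_one, mul_one] at this
  have hs2 : wprod (h17tmV a b 1 1 1) S2 ∈ τ.ker := by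
    have := h17tm_mem_ker τ a b 1 1 h1k h1k S2 hS2
    rwa [mul_one, mul_one] at this
  set s1 := wprod (h17tmV a b 1 1 1) S1 with hs1d
  set s2 := wprod (h17tmV a b 1 1 1) S2 with hs2d
  obtain ⟨k1, k2⟩ := h17tm_solve s1 s2 (hc hs1) (hc hs2) _ _ _ _ n11 n12 n21 n22 hE1 hE2 hE3 hE4
  have hza : s1 ^ n11 * s2 ^ n12 ∈ τ.ker :=
    Subgroup.mul_mem _ (Subgroup.zpow_mem _ hs1 _) (Subgroup.zpow_mem _ hs2 _)
  have hzb : s1 ^ n21 * s2 ^ n22 ∈ τ.ker :=
    Subgroup.mul_mem _ (Subgroup.zpow_mem _ hs1 _) (Subgroup.zpow_mem _ hs2 _)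
  set za := s1 ^ n11 * s2 ^ n12 with hzad
  set zb := s1 ^ n21 * s2 ^ n22 with hzbd
  have hq := h17tm_mem_ker τ a b za zb hza hzb R3 hR3
  have hr := h17tm_mem_ker τ a b za zb hza hzb R4 hR4
  have hs := h17tm_mem_ker τ a b za zb hza hzb R5 hR5
  set q := wprod (h17tmV (a * za) (b * zb) 1 1 1) R3 with hqd
  set r := wprod (h17tmV (a * za) (b * zb) 1 1 1) R4 with hrd
  set s := wprod (h17tmV (a * za) (b * zb) 1 1 1) R5 with hsd
  refine ⟨za, hza, zb, hzb, q, hq, r, hr, s, hs, ?_⟩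
  have hvIL := h17tmV_IL (a * za) (b * zb) q r s
  have hqc := Subgroup.mem_center_iff.mp (hc hq)
  have hrc := Subgroup.mem_center_iff.mp (hc hr)
  have hsc := Subgroup.mem_center_iff.mp (hc hs)
  have hcomm1 : ∀ z g : Λ, (∀ h : Λ, h * z = z * h) → z⁻¹ * g⁻¹ * z * g = 1 := by
    intro z g hz
    have := hz g⁻¹
    calc z⁻¹ * g⁻¹ * z * g = z⁻¹ * (g⁻¹ * z) * g := by group
      _ = z⁻¹ * (z * g⁻¹) * g := by rw [this]
      _ = 1 := by group
  intro w hw
  simp only [h17tmBase, List.mem_append, List.mem_cons, List.mem_map, List.not_mem_nil,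
    or_false] at hw
  rcases hw with (((((rfl | rfl) | ⟨p, hp, rfl⟩) | rfl | rfl | rfl) | hw) | hw) | rfl
  · rw [h17tmV_low _ _ _ _ _ _ hlS2, h17tm_adjust a b 1 1 1 za zb (hc hza) (hc hzb)]
    exact k2
  · rw [h17tmV_low _ _ _ _ _ _ hlS1, h17tm_adjust a b 1 1 1 za zb (hc hza) (hc hzb)]
    exact k1
  · rw [h17tm_wprod_CW _ hvIL]
    have hu : wprod (h17tmV (a * za) (b * zb) q r s) p.1 ∈ τ.ker := by
      rw [h17tmV_low _ _ _ _ _ _ (hlC p hp)]
      exact h17tm_mem_ker τ a b za zb hza hzb p.1 (hCs p hp)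
    exact hcomm1 _ _ (Subgroup.mem_center_iff.mp (hc hu))
  · rw [wprod_append, h17tmV_low _ _ _ _ _ _ hl3, wprod_cons, wprod_nil, mul_one]
    show q * q⁻¹ = 1
    exact mul_inv_cancel q
  · rw [wprod_append, h17tmV_low _ _ _ _ _ _ hl4, wprod_cons, wprod_nil, mul_one]
    show r * r⁻¹ = 1
    exact mul_inv_cancel r
  · rw [wprod_append, h17tmV_low _ _ _ _ _ _ hl5, wprod_cons, wprod_nil, mul_one]
    show s * s⁻¹ = 1
    exact mul_inv_cancel s
  · simp only [h17tmCent, List.mem_cons, List.not_mem_nil, or_false] at hw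
    rcases hw with rfl | rfl | rfl | rfl | rfl | rfl
    all_goals
      rw [h17tm_wprod_CW _ hvIL, wprod_cons, wprod_cons, wprod_nil, mul_one, mul_one]
    · exact hcomm1 _ _ hqc
    · exact hcomm1 _ _ hqc
    · exact hcomm1 _ _ hrc
    · exact hcomm1 _ _ hrc
    · exact hcomm1 _ _ hsc
    · exact hcomm1 _ _ hsc
  · simp only [h17tmPairs, List.mem_cons, List.not_mem_nil, or_false] at hw
    rcases hw with rfl | rfl | rfl | rfl | rfl | rfl | rfl | rfl | rfl | rfl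
    all_goals
      rw [wprod_cons, wprod_cons, wprod_nil, mul_one]
    all_goals first
      | exact mul_inv_cancel _
      | exact inv_mul_cancel _
  · rfl

end Cfsg.Agent.Lib.Helper17.TitsM
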