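import Mathlib
import Cfsg.Agent.Lib.helper17.TitsM.Stem

/-!
More generic lemmas about stem extensions used for the Schur multiplier of the Tits group (helper17):
a commutator of bounded order, commutator words, the derived group of a lifted perfect subgroup.
-/

set_option autoImplicit false

namespace Cfsg.Agent.Lib.Helper17.TitsM

open Cfsg.Agent.Lib.Helper12.TC

open scoped commutatorElement

/-- if `W` normalizes the group generated by `X` modulo a central subgroup, the commutator of `X`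
and `W` has order dividing the order of `X` modulo that subgroup -/
theorem h17tm_comm_pow {Λ G₀ : Type*} [Group Λ] [Group G₀] (τ : Λ →* G₀)
    (hc : τ.ker ≤ Subgroup.center Λ) (X W : Λ) (n k : ℕ) (hk : 1 ≤ k) (hX : τ X ^ n = 1)
    (hW : (τ W)⁻¹ * τ X * τ W = τ X ^ k) : (X⁻¹ * W⁻¹ * X * W) ^ n = 1 := by
  obtain ⟨k', rfl⟩ : ∃ k', k = k' + 1 := ⟨k - 1, by omega⟩
  set Y := W⁻¹ * X * W with hY
  have hζ : Y * (X ^ (k' + 1))⁻¹ ∈ τ.ker := by
    rw [MonoidHom.mem_ker, map_mul, map_inv, map_pow, hY, map_mul, map_mul, map_inv, hW,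
      mul_inv_cancel]
  have hξ : X ^ n ∈ τ.ker := by rw [MonoidHom.mem_ker, map_pow, hX]
  set ζ := Y * (X ^ (k' + 1))⁻¹ with hζd
  have hYe : Y = ζ * X ^ (k' + 1) := by rw [hζd, inv_mul_cancel_right]
  have hζc := Subgroup.mem_center_iff.mp (hc hζ)
  have hξc := Subgroup.mem_center_iff.mp (hc hξ)
  have hYn : Y ^ n = X ^ n := by
    have h1 : Y ^ n = W⁻¹ * X ^ n * W := by
      have := conj_pow (a := W⁻¹) (b := X) (i := n)
      rw [inv_inv] at this
      exact this
    rw [h1, mul_assoc, ← hξc W, inv_mul_cancel_left]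
  have hcm : ∀ g : Λ, Commute ζ g := fun g => (hζc g).symm
  have hE1 : ζ ^ n * (X ^ n) ^ (k' + 1) = X ^ n := by
    have h2 : Y ^ n = ζ ^ n * (X ^ n) ^ (k' + 1) := by
      rw [hYe, (hcm _).mul_pow, ← pow_mul, mul_comm (k' + 1) n, pow_mul]
    exact h2.symm.trans hYn
  have hce : X⁻¹ * W⁻¹ * X * W = ζ * X ^ k' := by
    have : X⁻¹ * W⁻¹ * X * W = X⁻¹ * Y := by rw [hY]; group
    rw [this, hYe, ← mul_assoc, hζc X⁻¹, mul_assoc, pow_succ', inv_mul_cancel_left]
  rw [hce, (hcm _).mul_pow, ← pow_mul, mul_comm k' n, pow_mul]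
  rw [pow_succ, ← mul_assoc] at hE1
  exact mul_eq_right.mp hE1

/-- the substitution of words for the letters `0`, `2` and of their inverses for `1`, `3` -/
def h17tmSub (xw yw : List ℕ) : ℕ → List ℕ
  | 0 => xw
  | 1 => h17tmIW xw
  | 2 => yw
  | 3 => h17tmIW yw
  | _ => []

/-- the expansion of a word in two words -/
def h17tmExp (xw yw : List ℕ) (w : List ℕ) : List ℕ := w.flatMap (h17tmSub xw yw)

theorem h17tm_wprod_Exp {Λ : Type*} [Group Λ] (v : ℕ → Λ) (hv : ∀ n, v (h17tmIL n) = (v n)⁻¹)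
    (xw yw w : List ℕ) (hw : ∀ t ∈ w, t < 4) :
    wprod v (h17tmExp xw yw w) = wprod (h17tmV (wprod v xw) (wprod v yw) 1 1 1) w := by
  induction w with
  | nil => rfl
  | cons t w ih =>
    unfold h17tmExp at ih ⊢
    rw [List.flatMap_cons, wprod_append, wprod_cons, ih (fun s hs => hw s (List.mem_cons_of_mem _ hs))]
    congr 1
    have := hw t List.mem_cons_self
    interval_cases t
    · rfl
    · exact h17tm_wprod_IW v hv xw
    · rfl
    · exact h17tm_wprod_IW v hv yw

theorem h17tmV_mem {Λ : Type*} [Group Λ] (Q : Subgroup Λ) (a b q r s : Λ) (ha : a ∈ Q) (hb : b ∈ Q)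
    (hq : q ∈ Q) (hr : r ∈ Q) (hs : s ∈ Q) (n : ℕ) : h17tmV a b q r s n ∈ Q := by
  by_cases h : n < 10
  · interval_cases n
    · exact ha
    · exact Q.inv_mem ha
    · exact hb
    · exact Q.inv_mem hb
    · exact hq
    · exact Q.inv_mem hq
    · exact hr
    · exact Q.inv_mem hr
    · exact hs
    · exact Q.inv_mem hs
  · rw [h17tmV_ge _ _ _ _ _ _ h]
    exact Q.one_mem

theorem h17tm_wprod_mem {Λ : Type*} [Group Λ] (Q : Subgroup Λ) (v : ℕ → Λ) (hv : ∀ n, v n ∈ Q)
    (w : List ℕ) : wprod v w ∈ Q := by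
  induction w with
  | nil => exact Q.one_mem
  | cons t w ih =>
    rw [wprod_cons]
    exact Q.mul_mem (hv t) ih

/-- the expansions of commutator words lie in the derived group of the group generated by the
two words -/
theorem h17tm_sub_mem {Λ : Type*} [Group Λ] (v : ℕ → Λ) (hv : ∀ n, v (h17tmIL n) = (v n)⁻¹)
    (xw yw u w : List ℕ) (hu : ∀ t ∈ u, t < 4) (hw : ∀ t ∈ w, t < 4) :
    wprod v (h17tmExp xw yw (h17tmCW u w)) ∈
      ⁅Subgroup.closure {wprod v xw, wprod v yw}, Subgroup.closure {wprod v xw, wprod v yw}⁆ := by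
  set Q := Subgroup.closure {wprod v xw, wprod v yw} with hQ
  have hx : wprod v xw ∈ Q := Subgroup.subset_closure (by simp)
  have hy : wprod v yw ∈ Q := Subgroup.subset_closure (by simp)
  have hIL4 : ∀ t, t < 4 → h17tmIL t < 4 := by
    intro t ht
    unfold h17tmIL
    interval_cases t <;> decide
  have hl : ∀ t ∈ h17tmCW u w, t < 4 := by
    intro t ht
    simp only [h17tmCW, h17tmIW, List.mem_append, List.mem_reverse, List.mem_map] at ht
    rcases ht with ((⟨s, hs, rfl⟩ | ⟨s, hs, rfl⟩) | ht) | ht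
    · exact hIL4 s (hu s hs)
    · exact hIL4 s (hw s hs)
    · exact hu t ht
    · exact hw t ht
  rw [h17tm_wprod_Exp v hv xw yw _ hl]
  set V := h17tmV (wprod v xw) (wprod v yw) 1 1 1 with hV
  have hVIL := h17tmV_IL (wprod v xw) (wprod v yw) 1 1 1
  have hVm : ∀ n, V n ∈ Q := h17tmV_mem Q _ _ _ _ _ hx hy Q.one_mem Q.one_mem Q.one_mem
  rw [h17tm_wprod_CW V hVIL]
  have hU := h17tm_wprod_mem Q V hVm u
  have hW := h17tm_wprod_mem Q V hVm w
  have e : (wprod V u)⁻¹ * (wprod V w)⁻¹ * wprod V u * wprod V w =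
      ⁅(wprod V u)⁻¹, (wprod V w)⁻¹⁆ := by
    rw [commutatorElement_def, inv_inv, inv_inv]
  rw [e]
  exact Subgroup.commutator_mem_commutator (Q.inv_mem hU) (Q.inv_mem hW)

/-- the derived group of a lifted perfect subgroup is perfect -/
theorem h17tm_derived_perfect {Γ G₀ : Type*} [Group Γ] [Group G₀] (τ : Γ →* G₀)
    (hc : τ.ker ≤ Subgroup.center Γ) (Q : Subgroup Γ) (hQ : Q.map τ ≤ (⁅Q, Q⁆).map τ) :
    ⁅Q, Q⁆ ≤ ⁅⁅Q, Q⁆, ⁅Q, Q⁆⁆ := by
  have hdec : ∀ g ∈ Q, ∃ k ∈ ⁅Q, Q⁆, ∃ z ∈ τ.ker, g = k * z := by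
    intro g hg
    obtain ⟨k, hk, hkg⟩ := hQ (Subgroup.mem_map_of_mem τ hg)
    refine ⟨k, hk, k⁻¹ * g, ?_, by group⟩
    rw [MonoidHom.mem_ker, map_mul, map_inv, hkg, inv_mul_cancel]
  rw [Subgroup.commutator_le]
  intro g hg h hh
  obtain ⟨k, hk, z, hz, rfl⟩ := hdec g hg
  obtain ⟨k', hk', z', hz', rfl⟩ := hdec h hh
  rw [h17tm_comm_central_left _ _ _ (hc hz), h17tm_comm_central_right _ _ _ (hc hz')]
  exact Subgroup.commutator_mem_commutator hk hk'

/-- the derived group of a lifted perfect subgroup is generated by lifts of generators -/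
theorem h17tm_derived_gen {Γ G₀ : Type*} [Group Γ] [Group G₀] (τ : Γ →* G₀)
    (hc : τ.ker ≤ Subgroup.center Γ) (Q K : Subgroup Γ) (hK : K = ⁅Q, Q⁆) (t u : G₀)
    (ht : t ∈ K.map τ) (hu : u ∈ K.map τ)
    (hQ : Q.map τ ≤ Subgroup.closure {t, u})
    (t' u' : ↥K) (ht' : τ t'.val = t) (hu' : τ u'.val = u) :
    Subgroup.closure {t', u'} = ⊤ := by
  have hKQ : K ≤ Q := by
    rw [hK, Subgroup.commutator_le]
    intro g hg h hh
    rw [commutatorElement_def]
    exact Q.mul_mem (Q.mul_mem (Q.mul_mem hg hh) (Q.inv_mem hg)) (Q.inv_mem hh)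
  have hQK : Q.map τ ≤ K.map τ := by
    refine hQ.trans ?_
    rw [Subgroup.closure_le]
    intro g hg
    rcases hg with rfl | rfl
    · exact ht
    · exact hu
  have hperf : K ≤ ⁅K, K⁆ := by
    have := h17tm_derived_perfect τ hc Q (by rw [← hK]; exact hQK)
    rw [← hK] at this
    exact this
  let τK : ↥K →* G₀ := τ.comp K.subtype
  apply h17tm_closure_eq_top τK
  · intro k hk
    rw [Subgroup.mem_center_iff]
    intro g
    apply Subtype.ext
    rw [Subgroup.coe_mul, Subgroup.coe_mul]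
    have hk' : k.val ∈ τ.ker := hk
    exact Subgroup.mem_center_iff.mp (hc hk') g.val
  · intro k _
    have h1 : k.val ∈ ⁅K, K⁆ := hperf k.2
    rw [← Subgroup.map_subtype_commutator] at h1
    obtain ⟨k2, hk2, hk2e⟩ := h1
    have : k2 = k := Subtype.ext hk2e
    rwa [this] at hk2
  · intro g
    have h1 : τ g.val ∈ Subgroup.closure {t, u} := hQ (Subgroup.mem_map_of_mem τ (hKQ g.2))
    have e : (τK '' {t', u'}) = {t, u} := by
      rw [Set.image_pair]
      show ({τ t'.val, τ u'.val} : Set G₀) = {t, u}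
      rw [ht', hu']
    rw [e]
    exact h1

/-- the order of a group from the order and the index of a subgroup -/
theorem h17tm_card_le {Γ : Type*} [Group Γ] (K : Subgroup Γ) (n m : ℕ)
    (h1 : Nat.card (Γ ⧸ K) ≤ n) (h2 : Nat.card K ≤ m) : Nat.card Γ ≤ n * m := by
  rw [Subgroup.card_eq_card_quotient_mul_card_subgroup K]
  exact Nat.mul_le_mul h1 h2

/-- a surjective homomorphism from a group which is not larger is injective -/
theorem h17tm_ker_trivial {Γ G : Type*} [Group Γ] [Group G] [Finite Γ] (σ : Γ →* G)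
    (hs : Function.Surjective σ) (h : Nat.card Γ ≤ Nat.card G) (y : Γ) (hy : y ∈ σ.ker) : y = 1 := by
  have hb := hs.bijective_of_nat_card_le h
  apply hb.1
  rw [map_one]
  exact hy

end Cfsg.Agent.Lib.Helper17.TitsM
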